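import Cfsg.Agent.H246.Dl.Defs
import Cfsg.Agent.H680.Dl.Hall
import Cfsg.Agent.H603.FD.Spor
import Cfsg.Agent.H852.IMMathieu2

/-!
# S4769, S4767: the rows of the Mathieu groups (helper567, task DL-SPOR-1)

`row_m11`, `row_m12`, `row_m22`, `row_m23`, `row_m24` : `Row p S` for all primes `p` dividing `|S|`: the derived length
of the Sylow `p`-subgroups is bounded by P. Hall's theorem (`H680.Dl`), the characters are given by their degrees
(`H417.DegM*`, `H603.FD.Spor`); `im_m*` (`H852.IMMathieu`) if the Sylow `p`-subgroups are abelian.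
-/

set_option autoImplicit false

open Cfsg

namespace Cfsg.Agent.H567.Dl

open Cfsg.Agent.H246.Dl Cfsg.Agent.H680.Dl

universe u

variable {S : Type u} [Group S] [Finite S]

omit [Finite S] in
/-- A set of degrees divisible by `p`. -/
theorem many_of_charDegrees {p : ℕ} {D : Finset ℕ} (h : ∀ d ∈ D, p ∣ d ∧ d ∈ charDegrees S) : Many p S D.card := by
  classical
  let e := D.equivFin
  choose hd χ hχ using h
  refine Many.of_degrees (fun i => χ (e.symm i) (e.symm i).2) (fun i => ?_) ?_
  · rw [hχ _ (e.symm i).2]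
    exact hd _ (e.symm i).2
  · intro i j hij
    have h2 : (e.symm i : ℕ) = (e.symm j : ℕ) := by
      rw [← hχ _ (e.symm i).2, ← hχ _ (e.symm j).2]
      exact hij
    exact e.symm.injective (Subtype.ext h2)

/-- A prime which divides a number given by its factorization. -/
theorem mem_of_dvd {p : ℕ} (hp : p.Prime) {l : List ℕ} (hl : ∀ q ∈ l, q.Prime) (h : p ∣ l.prod) : p ∈ l := by
  obtain ⟨q, hq, hpq⟩ := hp.prime.dvd_prod_iff.1 h
  rwa [(Nat.prime_dvd_prime_iff_eq hp (hl q hq)).1 hpq]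

section M11

theorem row_m11 (h : Spor.IsoM11 S) {p : ℕ} (hp : p.Prime) (hd : p ∣ Nat.card S) : Row p S := by
  have hF : Fact p.Prime := ⟨hp⟩
  have h11 : IsM11 S := UGT.End.MEleven.isM11 h
  have hc : Nat.card S = 7920 := h11.2
  have hdeg := H603.FD.Spor.m11 h11
  have hmem : p ∈ [2, 2, 2, 2, 3, 3, 5, 11] := by
    refine mem_of_dvd hp (by decide) ?_
    rw [hc] at hd
    exact hd
  simp only [List.mem_cons, List.not_mem_nil, or_false] at hmem
  by_cases h2 : p = 2
  · subst h2
    refine Row.of_le (dlLe_two (a := 4) (by norm_num) (by rw [hc]; norm_num))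
      (many_of_charDegrees (p := 2) (D := {10, 16}) ?_) (by decide)
    intro d hd
    simp only [Finset.mem_insert, Finset.mem_singleton] at hd
    rcases hd with rfl | rfl
    · exact ⟨by norm_num, hdeg.1⟩
    · exact ⟨by norm_num, hdeg.2.2.1⟩
  · refine Row.of_im (dlLe_one (a := 2) le_rfl ?_) (H852.IMMathieu.im_m11 h hd)
    rw [hc]
    have : p = 3 ∨ p = 5 ∨ p = 11 := by omega
    rcases this with rfl | rfl | rfl <;> norm_num

end M11

section M12

theorem row_m12 (h : Spor.IsoM12 S) {p : ℕ} (hp : p.Prime) (hd : p ∣ Nat.card S) : Row p S := by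
  have hF : Fact p.Prime := ⟨hp⟩
  have h12 : IsM12 S := H603.FD.Spor.isM12 h
  have hc : Nat.card S = 95040 := h12.2
  have hdeg := H603.FD.Spor.m12 h12
  have hmem : p ∈ [2, 2, 2, 2, 2, 2, 3, 3, 3, 5, 11] := by
    refine mem_of_dvd hp (by decide) ?_
    rw [hc] at hd
    exact hd
  simp only [List.mem_cons, List.not_mem_nil, or_false] at hmem
  by_cases h2 : p = 2
  · subst h2
    refine Row.of_le (dlLe_three (a := 6) (by norm_num) (by rw [hc]; norm_num))
      (many_of_charDegrees (p := 2) (D := {16, 54, 120}) ?_) (by decide)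
    intro d hd
    simp only [Finset.mem_insert, Finset.mem_singleton] at hd
    rcases hd with rfl | rfl | rfl
    · exact ⟨by norm_num, hdeg.1⟩
    · exact ⟨by norm_num, hdeg.2.2.1⟩
    · exact ⟨by norm_num, hdeg.2.2.2⟩
  by_cases h3 : p = 3
  · subst h3
    refine Row.of_le (dlLe_two (a := 3) (by norm_num) (by rw [hc]; norm_num))
      (many_of_charDegrees (p := 3) (D := {45, 54}) ?_) (by decide)
    intro d hd
    simp only [Finset.mem_insert, Finset.mem_singleton] at hd
    rcases hd with rfl | rfl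
    · exact ⟨by norm_num, hdeg.2.1⟩
    · exact ⟨by norm_num, hdeg.2.2.1⟩
  · refine Row.of_im (dlLe_one (a := 2) le_rfl ?_) (H852.IMMathieu.im_m12 h hd)
    rw [hc]
    have : p = 5 ∨ p = 11 := by omega
    rcases this with rfl | rfl <;> norm_num

end M12

section M22

theorem row_m22 (h : Spor.IsoM22 S) {p : ℕ} (hp : p.Prime) (hd : p ∣ Nat.card S) : Row p S := by
  have hF : Fact p.Prime := ⟨hp⟩
  have h22 : IsM22 S := H417.RecogMathieu.isM22 h
  have hc : Nat.card S = 443520 := h22.2
  obtain ⟨f, hf⟩ := H417.DegMTwentyTwo.exists_enum h22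
  have hmem : p ∈ [2, 2, 2, 2, 2, 2, 2, 3, 3, 5, 7, 11] := by
    refine mem_of_dvd hp (by decide) ?_
    rw [hc] at hd
    exact hd
  simp only [List.mem_cons, List.not_mem_nil, or_false] at hmem
  by_cases h2 : p = 2
  · subst h2
    refine Row.of_le (dlLe_three (a := 7) (by norm_num) (by rw [hc]; norm_num))
      (many_of_charDegrees (p := 2) (D := {154, 210, 280}) ?_) (by decide)
    intro d hd
    simp only [Finset.mem_insert, Finset.mem_singleton] at hd
    rcases hd with rfl | rfl | rfl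
    · exact ⟨by norm_num, f 6, hf 6⟩
    · exact ⟨by norm_num, f 7, hf 7⟩
    · exact ⟨by norm_num, f 9, hf 9⟩
  · refine Row.of_im (dlLe_one (a := 2) le_rfl ?_) (H852.IMMathieu.im_m22 h hd)
    rw [hc]
    have : p = 3 ∨ p = 5 ∨ p = 7 ∨ p = 11 := by omega
    rcases this with rfl | rfl | rfl | rfl <;> norm_num

end M22

section M23

theorem row_m23 (h : Spor.IsoM23 S) {p : ℕ} (hp : p.Prime) (hd : p ∣ Nat.card S) : Row p S := by
  have hF : Fact p.Prime := ⟨hp⟩
  have h23 : IsM23 S := H417.RecogMathieu.isM23 h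
  have hc : Nat.card S = 10200960 := h23.2
  have hdeg := H603.FD.Spor.m23 h23
  have hmem : p ∈ [2, 2, 2, 2, 2, 2, 2, 3, 3, 5, 7, 11, 23] := by
    refine mem_of_dvd hp (by decide) ?_
    rw [hc] at hd
    exact hd
  simp only [List.mem_cons, List.not_mem_nil, or_false] at hmem
  by_cases h2 : p = 2
  · subst h2
    refine Row.of_le (dlLe_three (a := 7) (by norm_num) (by rw [hc]; norm_num))
      (many_of_charDegrees (p := 2) (D := {230, 896, 2024}) ?_) (by decide)
    intro d hd
    simp only [Finset.mem_insert, Finset.mem_singleton] at hd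
    rcases hd with rfl | rfl | rfl
    · exact ⟨by norm_num, hdeg.1⟩
    · exact ⟨by norm_num, hdeg.2.2.2⟩
    · exact ⟨by norm_num, H417.DegMTwentyThree.mem_2024 h23⟩
  · refine Row.of_im (dlLe_one (a := 2) le_rfl ?_) (H852.IMMathieu.im_m23 h hd)
    rw [hc]
    have : p = 3 ∨ p = 5 ∨ p = 7 ∨ p = 11 ∨ p = 23 := by omega
    rcases this with rfl | rfl | rfl | rfl | rfl <;> norm_num

end M23

section M24

theorem degrees_m24 (h : IsM24 S) : 990 ∈ charDegrees S ∧ 1035 ∈ charDegrees S ∧ 5796 ∈ charDegrees S ∧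
    2024 ∈ charDegrees S := by
  have := h.1
  obtain ⟨H⟩ := M24Order.Final.exists_hyp h.2
  have : Fact (Nat.Prime 5) := ⟨by norm_num⟩
  have : Fact (Nat.Prime 7) := ⟨by norm_num⟩
  obtain ⟨R⟩ : Nonempty (Sylow 5 S) := inferInstance
  obtain ⟨T⟩ : Nonempty (Sylow 7 S) := inferInstance
  obtain ⟨L, M, B, ε, a, b, c, d, h5, ⟨K', M', D, a', h7⟩ | ⟨K', M', B', ε', l', h7⟩⟩ :=
    SporadicA.M24.Convert.exists_blocks H R T
  · obtain ⟨t, v, Θ, Θ', L⟩ := M24Order.ToLast.exists_last H h5 h7
    exact ⟨⟨_, L.d990⟩, ⟨_, L.d1035⟩, ⟨_, L.d5796⟩, ⟨_, L.d2024⟩⟩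
  · exact (S0422.six_false (SporadicA.M24.Convert.conv H) h5 h7).elim

theorem row_m24 (h : Spor.IsoM24 S) {p : ℕ} (hp : p.Prime) (hd : p ∣ Nat.card S) : Row p S := by
  have hF : Fact p.Prime := ⟨hp⟩
  have h24 : IsM24 S := H417.RecogMathieu.isM24 h
  have hc : Nat.card S = 244823040 := h24.2
  have hdeg := degrees_m24 h24
  have hmem : p ∈ [2, 2, 2, 2, 2, 2, 2, 2, 2, 2, 3, 3, 3, 5, 7, 11, 23] := by
    refine mem_of_dvd hp (by decide) ?_
    rw [hc] at hd
    exact hd
  simp only [List.mem_cons, List.not_mem_nil, or_false] at hmem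
  by_cases h2 : p = 2
  · subst h2
    refine Row.of_le (dlLe_three (a := 10) (by norm_num) (by rw [hc]; norm_num))
      (many_of_charDegrees (p := 2) (D := {990, 5796, 2024}) ?_) (by decide)
    intro d hd
    simp only [Finset.mem_insert, Finset.mem_singleton] at hd
    rcases hd with rfl | rfl | rfl
    · exact ⟨by norm_num, hdeg.1⟩
    · exact ⟨by norm_num, hdeg.2.2.1⟩
    · exact ⟨by norm_num, hdeg.2.2.2⟩
  by_cases h3 : p = 3
  · subst h3
    refine Row.of_le (dlLe_two (a := 3) (by norm_num) (by rw [hc]; norm_num))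
      (many_of_charDegrees (p := 3) (D := {990, 1035}) ?_) (by decide)
    intro d hd
    simp only [Finset.mem_insert, Finset.mem_singleton] at hd
    rcases hd with rfl | rfl
    · exact ⟨by norm_num, hdeg.1⟩
    · exact ⟨by norm_num, hdeg.2.1⟩
  · refine Row.of_im (dlLe_one (a := 2) le_rfl ?_) (H852.IMMathieu.im_m24 h hd)
    rw [hc]
    have : p = 5 ∨ p = 7 ∨ p = 11 ∨ p = 23 := by omega
    rcases this with rfl | rfl | rfl | rfl <;> norm_num

end M24

end Cfsg.Agent.H567.Dl
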